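import Groth.Agent.Lambda.Elem
import Groth.Agent.Lambda.Theta

/-!
`λ^i` of a multiple by a line element, and the values of the Bott polynomial.
-/

universe v

open Finset LambdaRing MvPolynomial

namespace Groth.Agent.ElemARR

open Groth.Agent.Lambda

theorem lamSeries_lineMon_mul {σ : Type v} (c : σ →₀ ℕ) (p : MvPolynomial σ ℤ) :
    lineSeries (lineMon c * p) = PowerSeries.rescale (lineMon c) (lineSeries p) := by
  let G : AddSubgroup (MvPolynomial σ ℤ) :=
    { carrier := {p | lineSeries (lineMon c * p) = PowerSeries.rescale (lineMon c) (lineSeries p)}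
      zero_mem' := by simp [lineSeries_zero]
      add_mem' := fun {a b} ha hb => by
        simp only [Set.mem_ofPred_eq] at ha hb ⊢
        rw [mul_add, lineSeries_add, lineSeries_add, map_mul, ha, hb]
      neg_mem' := fun {a} ha => by
        simp only [Set.mem_ofPred_eq] at ha ⊢
        have e1 : lineSeries (-a) * lineSeries a = 1 := by
          rw [← lineSeries_add, neg_add_cancel, lineSeries_zero]
        have e2 : lineSeries (lineMon c * -a) * lineSeries (lineMon c * a) = 1 := by
          rw [← lineSeries_add, ← mul_add, neg_add_cancel, mul_zero, lineSeries_zero]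
        have e3 := congrArg (PowerSeries.rescale (lineMon c)) e1
        rw [map_mul, map_one, ← ha] at e3
        exact left_inv_eq_right_inv e2 ((mul_comm _ _).trans e3) }
  refine line_induction (S := G) (fun c' => ?_) p
  show lineSeries (lineMon c * lineMon c') = PowerSeries.rescale (lineMon c) (lineSeries (lineMon c'))
  have hmul : lineMon c * lineMon c' = (lineMon (c + c') : MvPolynomial σ ℤ) := by
    simp only [lineMon, ← map_mul, monomial_mul, mul_one]
  rw [hmul, lineSeries_lineMon, lineSeries_lineMon, ← hmul]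
  ext1 i
  rw [PowerSeries.coeff_rescale]
  match i with
  | 0 => simp
  | 1 => simp
  | i + 2 => simp [PowerSeries.coeff_one, PowerSeries.coeff_X]

/-- `λ^i(u x) = u^i λ^i x` for a line element `u`. -/
theorem lam_line_mul {K : Type v} [CommRing K] [LambdaOps K] {P : PosStructure K} (hK : HasSplitting K P)
    {u : K} (hu : P.IsLine u) (x : K) (i : ℕ) :
    LambdaOps.lam i (u * x) = u ^ i * LambdaOps.lam i x := by
  classical
  obtain ⟨L, f, hf, h⟩ := exists_lift_list hK [x]
  obtain ⟨p, hp⟩ := h x (by simp)
  let c : LineIdx L.posStr →₀ ℕ := Finsupp.single ⟨f u, map_isLine hf hu⟩ 1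
  have hc : lineHom L.posStr (lineMon c) = f u := by
    simp [c, lineMon_eq, lineHom]
  apply hf.injective
  rw [hf.isLambdaHom, map_mul, map_mul, map_pow, hf.isLambdaHom i x, ← hp, ← hc, ← map_mul, ← lineHom_lam,
    ← lineHom_lam, ← map_pow, ← map_mul]
  refine congrArg _ ?_
  show PowerSeries.coeff i (lineSeries (lineMon c * p)) = lineMon c ^ i * PowerSeries.coeff i (lineSeries p)
  rw [lamSeries_lineMon_mul, PowerSeries.coeff_rescale]

/-- The Bott polynomial at the elementary symmetric functions of `v`. -/
theorem aeval_bottPoly {A : Type*} [CommRing A] (j m : ℕ) (v : Fin m → A) :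
    MvPolynomial.aeval (fun i : Fin m => ∑ S ∈ (univ : Finset (Fin m)).powersetCard (i.1 + 1), ∏ a ∈ S, v a)
      (KRR.bottPoly j m) = ∏ a, ∑ k ∈ range j, v a ^ k := by
  have h : MvPolynomial.esymmAlgHom (Fin m) ℤ m (KRR.bottPoly j m) =
      ⟨KRR.bottSym j m, KRR.bottSym_isSymmetric j _⟩ :=
    AlgEquiv.apply_symm_apply (MvPolynomial.esymmAlgEquiv (Fin m) ℤ (Fintype.card_fin _)) _
  have h' := congrArg Subtype.val h
  rw [MvPolynomial.esymmAlgHom_apply] at h'
  have h'' := congrArg (MvPolynomial.aeval v) h'
  rw [← AlgHom.comp_apply, MvPolynomial.comp_aeval] at h''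
  have hlam : (fun i : Fin m => ∑ S ∈ (univ : Finset (Fin m)).powersetCard (i.1 + 1), ∏ a ∈ S, v a) =
      fun i : Fin m => MvPolynomial.aeval v (MvPolynomial.esymm (Fin m) ℤ ((i : ℕ) + 1)) := by
    funext i
    rw [MvPolynomial.aeval_esymm_eq_multiset_esymm, Finset.esymm_map_val]
  rw [hlam]
  refine h''.trans ?_
  simp [KRR.bottSym]

end Groth.Agent.ElemARR
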