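import Groth.Agent.ElemARR.Poly
import Groth.Agent.ElemARR.Lam
import Mathlib.RingTheory.Polynomial.Vieta
import Mathlib.RingTheory.Flat.Localization
import Mathlib.RingTheory.TensorProduct.Maps

/-!
Adams Riemann–Roch for the model elementary projection.
-/

universe v

open Finset LambdaRing
open scoped TensorProduct Polynomial

namespace Groth.Agent.ElemARR

set_option backward.isDefEq.respectTransparency false

open Groth.Agent.Lambda

variable {K : Type v} [CommRing K] [LambdaOps K] {P : PosStructure K} {e : K} {r : ℕ}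

theorem monic_extPoly_of_map {L : Type v} [CommRing L] (φ : K →+* L) (hφ : Function.Injective φ)
    (u : Fin (r + 1) → L) (h : (KRR.extPoly P e).map φ = rootPoly u) : (KRR.extPoly P e).Monic :=
  Polynomial.monic_of_injective hφ (h ▸ monic_rootPoly u)

theorem extPoly_map_eq {L : PosLambdaRing.{v}} {φ : K →+* L.carrier} (hφ : IsExtension P L.posStr φ)
    (u : Fin (r + 1) → L.carrier) (hu : ∀ a, L.posStr.IsLine (u a)) (hsum : ∑ a, u a = φ e)
    (hr : P.aug e = r + 1) : (KRR.extPoly P e).map φ = rootPoly u := by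
  have hm : (P.aug e).toNat = r + 1 := by omega
  have hV := Multiset.prod_X_sub_X_eq_sum_esymm ((univ : Finset (Fin (r + 1))).val.map u)
  rw [Multiset.map_map, Multiset.card_map, Finset.card_val, card_univ, Fintype.card_fin] at hV
  refine Eq.trans ?_ hV.symm
  rw [KRR.extPoly, Polynomial.map_sum, hm]
  refine sum_congr rfl fun i _ => ?_
  rw [Polynomial.map_mul, Polynomial.map_C, Polynomial.map_pow, Polynomial.map_X, map_mul, map_pow, map_neg,
    map_one, hφ.isLambdaHom i e, ← hsum, lam_finset_sum_eq_esymm _ (fun a _ => lam_line (hu a)),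
    Finset.esymm_map_val, Polynomial.C_mul, map_pow, map_neg, map_one, mul_assoc]

/-- The functional is a residue. -/
theorem functional_eq_coeff (he : e ∈ P.pos) (hr : P.aug e = r + 1) (hp : (KRR.extPoly P e).Monic)
    (hdeg : (KRR.extPoly P e).natDegree = r + 1)
    {f : AdjoinRoot (KRR.extPoly P e) →ₗ[K] K}
    (hf : ∀ i : ℕ, i ≤ r → f (AdjoinRoot.root (KRR.extPoly P e) ^ i) = KRR.sigma i e)
    {linv : AdjoinRoot (KRR.extPoly P e)} (hlinv : linv * AdjoinRoot.root (KRR.extPoly P e) = 1) (q : K[X]) :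
    f (AdjoinRoot.mk (KRR.extPoly P e) q) = ((q * Polynomial.X ^ r) %ₘ KRR.extPoly P e).coeff r := by
  rcases subsingleton_or_nontrivial K with hK | hK
  · exact Subsingleton.elim _ _
  set rem := (q * Polynomial.X ^ r) %ₘ (KRR.extPoly P e) with hrem
  have h1 : AdjoinRoot.mk (KRR.extPoly P e) q = AdjoinRoot.mk (KRR.extPoly P e) rem * linv ^ r := by
    have h2 : AdjoinRoot.mk (KRR.extPoly P e) rem = AdjoinRoot.mk (KRR.extPoly P e) (q * Polynomial.X ^ r) := by
      rw [AdjoinRoot.mk_eq_mk, hrem, Polynomial.modByMonic_eq_sub_mul_div _]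
      exact ⟨-((q * Polynomial.X ^ r) /ₘ (KRR.extPoly P e)), by ring⟩
    rw [h2, map_mul, map_pow, AdjoinRoot.mk_X, mul_assoc, ← mul_pow, mul_comm _ linv, hlinv, one_pow, mul_one]
  have hd : rem.natDegree < r + 1 := by
    rw [← hdeg]
    exact Polynomial.natDegree_modByMonic_lt _ hp fun h => by simp [h] at hdeg
  rw [h1, rem.as_sum_range' (r + 1) hd, map_sum, sum_mul, map_sum, Polynomial.finsetSum_coeff]
  refine sum_congr rfl fun i hi => ?_
  rw [mem_range] at hi
  rw [← Polynomial.C_mul_X_pow_eq_monomial, map_mul (AdjoinRoot.mk _), AdjoinRoot.mk_C, map_pow, AdjoinRoot.mk_X, mul_assoc,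
    functional_of_mul, Polynomial.coeff_C_mul_X_pow]
  obtain ⟨c, hc⟩ : ∃ c, r = i + c := ⟨r - i, by omega⟩
  rw [show linv ^ r = linv ^ i * linv ^ c by rw [hc, pow_add], ← mul_assoc, ← mul_pow, mul_comm _ linv, hlinv,
    one_pow, one_mul]
  rcases Nat.eq_zero_or_pos c with rfl | hc0
  · rw [pow_zero, ← pow_zero (AdjoinRoot.root (KRR.extPoly P e)), hf 0 (Nat.zero_le r), sigma_zero, mul_one, if_pos (by omega)]
  · rw [functional_linv_pow he hr hf hlinv c hc0 (by omega), mul_zero, if_neg (by omega)]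

theorem main (hK : HasSplitting K P) (he : e ∈ P.pos) (hr : P.aug e = r + 1)
    (inst : LambdaOps (AdjoinRoot (KRR.extPoly P e))) (Pe : @PosStructure _ _ inst)
    (hext : @IsExtension K _ _ _ _ inst P Pe (AdjoinRoot.of (KRR.extPoly P e)))
    (hline : @PosStructure.IsLine _ _ inst Pe (AdjoinRoot.root (KRR.extPoly P e)))
    (hsplit : @HasSplitting _ _ inst Pe) (N : ℕ) (hN : @gammaFiltration _ _ inst Pe N = ⊥)
    (f : AdjoinRoot (KRR.extPoly P e) →ₗ[K] K)
    (hf : ∀ i : ℕ, i ≤ r → f (AdjoinRoot.root (KRR.extPoly P e) ^ i) = KRR.sigma i e)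
    (linv : AdjoinRoot (KRR.extPoly P e)) (hlinv : linv * AdjoinRoot.root (KRR.extPoly P e) = 1)
    (j : ℕ) (hj : 1 ≤ j) (R : Type) [CommRing R] [Module.Flat ℤ R] (hjR : IsUnit (j : R)) :
    (∃ w : TensorProduct ℤ R (AdjoinRoot (KRR.extPoly P e)),
      w * ((1 : R) ⊗ₜ[ℤ] @KRR.bott _ _ inst Pe j (AdjoinRoot.of (KRR.extPoly P e) e * linv)) = 1) ∧
    ∀ w : TensorProduct ℤ R (AdjoinRoot (KRR.extPoly P e)),
      w * ((1 : R) ⊗ₜ[ℤ] @KRR.bott _ _ inst Pe j (AdjoinRoot.of (KRR.extPoly P e) e * linv)) = 1 →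
      ∀ x : AdjoinRoot (KRR.extPoly P e),
        (1 : R) ⊗ₜ[ℤ] adams P j (f x) =
          LinearMap.lTensor R f.toAddMonoidHom.toIntLinearMap
            ((j : TensorProduct ℤ R (AdjoinRoot (KRR.extPoly P e))) * w *
              ((1 : R) ⊗ₜ[ℤ] @adams _ _ inst Pe j x)) := by
  let of' : K →+* AdjoinRoot (KRR.extPoly P e) := AdjoinRoot.of (KRR.extPoly P e)
  have hm : (P.aug e).toNat = r + 1 := by omega
  have hauginv : Pe.aug linv = 1 := by
    have h := congrArg Pe.aug hlinv
    rwa [map_mul, hline.2, mul_one, map_one] at h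
  have haugy : Pe.aug (of' e * linv) = r + 1 := by rw [map_mul, hauginv, mul_one, hext.aug_comp, hr]
  have hmy : (Pe.aug (of' e * linv)).toNat = r + 1 := by omega
  have hlam : ∀ i, @LambdaOps.lam _ _ inst i (of' e * linv) = linv ^ i * of' (LambdaOps.lam i e) := fun i => by
    have h := @lam_line_mul _ _ inst Pe hsplit _ hline (of' e * linv) i
    rw [show AdjoinRoot.root (KRR.extPoly P e) * (of' e * linv) = of' e by linear_combination of' e * hlinv,
      ← hext.isLambdaHom i e] at h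
    rw [h, ← mul_assoc, ← mul_pow, hlinv, one_pow, one_mul]
  constructor
  · -- the Bott class is `j ^ (r + 1)` plus a nilpotent
    set b := @KRR.bott _ _ inst Pe j (of' e * linv) with hb
    have hbaug : Pe.aug b = (j : ℤ) ^ (r + 1) := by
      rw [hb, KRR.bott, hmy, ringHom_aeval_int]
      have := aeval_bottPoly j (r + 1) (fun _ => (1 : ℤ))
      simp only [one_pow, sum_const, card_range, nsmul_eq_mul, mul_one, prod_const, card_univ,
        Fintype.card_fin] at this
      rw [← this]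
      congr 2
      funext i
      rw [hlam, map_mul, map_pow, hauginv, one_pow, one_mul, hext.aug_comp, aug_lam hK he, hm,
        card_powersetCard, card_univ, Fintype.card_fin]
    have hnil : IsNilpotent (b - (j : AdjoinRoot (KRR.extPoly P e)) ^ (r + 1)) := by
      refine ⟨N, ?_⟩
      have h1 := @mem_one_of_aug_eq_zero _ _ inst Pe (b - (j : AdjoinRoot (KRR.extPoly P e)) ^ (r + 1))
        (by rw [map_sub, map_pow, map_natCast, hbaug, sub_self])
      have h2 := @Groth.Agent.Lambda.pow_mem _ _ inst Pe _ _ h1 N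
      rw [mul_one, hN, AddSubgroup.mem_bot] at h2
      exact h2
    have hu : IsUnit (Algebra.TensorProduct.includeRight (R := ℤ) (A := R) b) := by
      have hj' : IsUnit ((j : R ⊗[ℤ] AdjoinRoot (KRR.extPoly P e)) ^ (r + 1)) := by
        refine IsUnit.pow _ ?_
        have := hjR.map (Algebra.TensorProduct.includeLeftRingHom (R := ℤ) (A := R) (B := AdjoinRoot (KRR.extPoly P e)))
        rwa [map_natCast] at this
      have := IsNilpotent.isUnit_add_left_of_commute
        (hnil.map (Algebra.TensorProduct.includeRight (R := ℤ) (A := R))) hj' (Commute.all _ _)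
      rwa [map_sub, map_pow, map_natCast, add_sub_cancel] at this
    obtain ⟨w, hw⟩ := hu.exists_left_inv
    exact ⟨w, hw⟩
  intro w hw x
  obtain ⟨L, φ, hφ, hL, s, hs, hse, hcard⟩ := exists_split hK he
  obtain ⟨m, u, hm', hu⟩ := exists_enum s
  obtain rfl : m = r + 1 := by omega
  have hul : ∀ a, L.posStr.IsLine (u a) := fun a =>
    hs _ (by rw [← hu]; exact Multiset.mem_map_of_mem u (Finset.mem_univ_val a))
  have hsum : ∑ a, u a = φ e := by rw [← hse, Finset.sum_eq_multiset_sum, hu]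
  have hp : (KRR.extPoly P e).map φ = rootPoly u := extPoly_map_eq hφ u hul hsum hr
  have hpm : (KRR.extPoly P e).Monic := monic_extPoly_of_map φ hφ.injective u hp
  have hdeg : (KRR.extPoly P e).natDegree = r + 1 := by
    haveI : Nontrivial L.carrier := (L.posStr.aug).domain_nontrivial
    rw [← Polynomial.natDegree_map_eq_of_injective hφ.injective, hp, rootPoly,
      Polynomial.natDegree_finsetProd_X_sub_C_eq_card, card_univ, Fintype.card_fin]
  let ιL : L.carrier →+* (R ⊗[ℤ] L.carrier) := (Algebra.TensorProduct.includeRight (R := ℤ) (A := R) (B := L.carrier)).toRingHom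
  let ι : K →+* (R ⊗[ℤ] L.carrier) := ιL.comp φ
  let u' : Fin (r + 1) → (R ⊗[ℤ] L.carrier) := ιL ∘ u
  have hp' : (KRR.extPoly P e).map ι = rootPoly u' := by rw [← Polynomial.map_map, hp, map_rootPoly]
  let C' := AdjoinRoot (rootPoly u')
  let α : AdjoinRoot (KRR.extPoly P e) →+* C' := AdjoinRoot.lift ((AdjoinRoot.of (rootPoly u')).comp ι) (AdjoinRoot.root _)
    (by rw [← Polynomial.eval₂_map, hp', AdjoinRoot.eval₂_root])
  have hα : ∀ q : K[X], α (AdjoinRoot.mk (KRR.extPoly P e) q) = AdjoinRoot.mk (rootPoly u') (q.map ι) := fun q => by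
    rw [AdjoinRoot.lift_mk, ← Polynomial.eval₂_map]
    exact AdjoinRoot.aeval_eq _
  let Λ : R ⊗[ℤ] AdjoinRoot (KRR.extPoly P e) →+* C' :=
    (Algebra.TensorProduct.lift
      (((AdjoinRoot.of (rootPoly u')).comp
        (Algebra.TensorProduct.includeLeftRingHom (R := ℤ) (A := R) (B := L.carrier))).toIntAlgHom)
      α.toIntAlgHom (fun _ _ => Commute.all _ _)).toRingHom
  have hΛ : ∀ (s : R) (z : AdjoinRoot (KRR.extPoly P e)), Λ (s ⊗ₜ z) = AdjoinRoot.of (rootPoly u') (s ⊗ₜ 1) * α z := fun s z => by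
    show Algebra.TensorProduct.lift _ _ _ (s ⊗ₜ z) = _
    rw [Algebra.TensorProduct.lift_tmul]
    rfl
  let Ψ : R ⊗[ℤ] K →ₗ[ℤ] (R ⊗[ℤ] L.carrier) := LinearMap.lTensor R φ.toAddMonoidHom.toIntLinearMap
  have hΨ : Function.Injective Ψ := by
    exact Module.Flat.lTensor_preserves_injective_linearMap _ hφ.injective
  -- the functional after base change is a residue
  have key : ∀ y : R ⊗[ℤ] AdjoinRoot (KRR.extPoly P e), ∀ Q : (R ⊗[ℤ] L.carrier)[X], AdjoinRoot.mk (rootPoly u') Q = Λ y →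
      Ψ (LinearMap.lTensor R f.toAddMonoidHom.toIntLinearMap y) =
        ((Q * Polynomial.X ^ r) %ₘ rootPoly u').coeff r := by
    intro y Q hQ
    obtain ⟨Q₀, hQ₀, hQ₀'⟩ : ∃ Q₀ : (R ⊗[ℤ] L.carrier)[X], AdjoinRoot.mk (rootPoly u') Q₀ = Λ y ∧
        Ψ (LinearMap.lTensor R f.toAddMonoidHom.toIntLinearMap y) =
          ((Q₀ * Polynomial.X ^ r) %ₘ rootPoly u').coeff r := by
      clear hQ
      induction y using TensorProduct.induction_on with
      | zero => exact ⟨0, by rw [map_zero, map_zero], by simp⟩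
      | add a b ha hb =>
        obtain ⟨Qa, ha1, ha2⟩ := ha
        obtain ⟨Qb, hb1, hb2⟩ := hb
        refine ⟨Qa + Qb, by rw [map_add, map_add, ha1, hb1], ?_⟩
        rw [map_add, map_add, ha2, hb2, add_mul, Polynomial.add_modByMonic, Polynomial.coeff_add]
      | tmul s z =>
        obtain ⟨q, rfl⟩ := AdjoinRoot.mk_surjective z
        refine ⟨Polynomial.C (s ⊗ₜ 1) * q.map ι, ?_, ?_⟩
        · rw [map_mul, AdjoinRoot.mk_C, hΛ, hα]
        · rw [mul_assoc, ← Polynomial.smul_eq_C_mul, Polynomial.smul_modByMonic, Polynomial.coeff_smul, ← hp',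
            show (Polynomial.map ι q * Polynomial.X ^ r : (R ⊗[ℤ] L.carrier)[X]) = (q * Polynomial.X ^ r).map ι by
              simp [Polynomial.map_pow],
            ← Polynomial.map_modByMonic ι hpm, Polynomial.coeff_map, ← functional_eq_coeff he hr hpm hdeg hf hlinv,
            LinearMap.lTensor_tmul, LinearMap.lTensor_tmul, smul_eq_mul]
          show s ⊗ₜ φ (f (AdjoinRoot.mk (KRR.extPoly P e) q)) = (s ⊗ₜ 1) * ((1 : R) ⊗ₜ φ (f (AdjoinRoot.mk (KRR.extPoly P e) q)))
          rw [Algebra.TensorProduct.tmul_mul_tmul, mul_one, one_mul]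
    rw [hQ₀', Polynomial.modByMonic_eq_of_dvd_sub (monic_rootPoly u')]
    rw [← sub_mul]
    exact (AdjoinRoot.mk_eq_mk.1 (hQ₀.trans hQ.symm)).mul_right _
  -- the Bott class
  set ρ : C' := AdjoinRoot.root (rootPoly u')
  have hρ : α linv * ρ = 1 := by
    rw [show ρ = α (AdjoinRoot.root (KRR.extPoly P e)) from (AdjoinRoot.lift_root _).symm, ← map_mul, hlinv, map_one]
  have hθ : Λ ((1 : R) ⊗ₜ @KRR.bott _ _ inst Pe j (of' e * linv)) * ρ ^ ((j - 1) * (r + 1)) =
      AdjoinRoot.mk (rootPoly u') (thetaPoly j u') := by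
    have h1 : Λ ((1 : R) ⊗ₜ @KRR.bott _ _ inst Pe j (of' e * linv)) =
        ∏ a, ∑ k ∈ range j, (α linv * AdjoinRoot.of (rootPoly u') (u' a)) ^ k := by
      rw [hΛ, ← Algebra.TensorProduct.one_def, map_one, one_mul, KRR.bott, hmy, ringHom_aeval_int,
        ← aeval_bottPoly]
      congr 2
      funext i
      rw [hlam, map_mul, map_pow, show of' (LambdaOps.lam (i.1 + 1) e) = AdjoinRoot.mk (KRR.extPoly P e) (Polynomial.C
          (LambdaOps.lam (i.1 + 1) e)) from rfl, hα, Polynomial.map_C, AdjoinRoot.mk_C,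
        show ι (LambdaOps.lam (i.1 + 1) e) = ιL (φ (LambdaOps.lam (i.1 + 1) e)) from rfl,
        hφ.isLambdaHom, ← hsum, lam_finset_sum_eq_esymm _ (fun a _ => lam_line (hul a)), map_sum, map_sum,
        mul_sum]
      refine sum_congr rfl fun S hS => ?_
      rw [prod_mul_distrib, prod_const, (mem_powersetCard.mp hS).2, map_prod, map_prod]
      rfl
    rw [h1, mul_comm (j - 1), mul_comm (r + 1), pow_mul, ← Fin.prod_const, ← prod_mul_distrib, thetaPoly,
      map_prod]
    refine prod_congr rfl fun a _ => ?_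
    rw [sum_mul, map_sum]
    refine sum_congr rfl fun k hk => ?_
    rw [mem_range] at hk
    obtain ⟨c, hc⟩ : ∃ c, j - 1 = k + c := ⟨j - 1 - k, by omega⟩
    rw [hc, Nat.add_sub_cancel_left, mul_pow, pow_add, map_mul, map_pow, map_pow, AdjoinRoot.mk_C,
      AdjoinRoot.mk_X]
    have hk1 : α linv ^ k * ρ ^ k = 1 := by rw [← mul_pow, hρ, one_pow]
    linear_combination (AdjoinRoot.of (rootPoly u') (u' a) ^ k * ρ ^ c) * hk1
  obtain ⟨W, hW⟩ := AdjoinRoot.mk_surjective (Λ w * α linv ^ ((j - 1) * (r + 1)))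
  have hρn : α linv ^ ((j - 1) * (r + 1)) * ρ ^ ((j - 1) * (r + 1)) = 1 := by
    rw [← mul_pow, hρ, one_pow]
  have hWΘ : rootPoly u' ∣ W * thetaPoly j u' - 1 := by
    rw [← AdjoinRoot.mk_eq_zero, map_sub, map_mul, map_one, hW, ← hθ]
    have := congrArg Λ hw
    rw [map_mul, map_one] at this
    linear_combination (α linv ^ ((j - 1) * (r + 1)) * ρ ^ ((j - 1) * (r + 1))) * this + hρn
  have hjB : IsUnit (j : (R ⊗[ℤ] L.carrier)) := by
    have := hjR.map (Algebra.TensorProduct.includeLeftRingHom (R := ℤ) (A := R) (B := L.carrier))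
    rwa [map_natCast] at this
  -- evaluation
  obtain ⟨q, rfl⟩ := AdjoinRoot.mk_surjective x
  have hψK : ∀ c : K, ι (adams P j c) = ιL (adamsRingHom hL j (φ c)) := fun c =>
    congrArg ιL (map_adams hφ.isLambdaHom hφ.aug_comp j c)
  let g : (R ⊗[ℤ] L.carrier)[X] := q.map (ι.comp (adamsRingHom hK j))
  have hψx : Λ ((1 : R) ⊗ₜ @adams _ _ inst Pe j (AdjoinRoot.mk (KRR.extPoly P e) q)) =
      AdjoinRoot.mk (rootPoly u') (Polynomial.expand (R ⊗[ℤ] L.carrier) j g) := by
    rw [hΛ, ← Algebra.TensorProduct.one_def, map_one, one_mul]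
    have h2 : (α.comp ((@adamsRingHom _ _ inst Pe hsplit j).comp (AdjoinRoot.mk (KRR.extPoly P e)))) =
        ((AdjoinRoot.mk (rootPoly u')).comp ((Polynomial.expand (R ⊗[ℤ] L.carrier) j).toRingHom.comp
          (Polynomial.mapRingHom (ι.comp (adamsRingHom hK j))))) := by
      refine Polynomial.ringHom_ext (fun c => ?_) ?_
      · show α (@adams _ _ inst Pe j (AdjoinRoot.mk (KRR.extPoly P e) (Polynomial.C c))) =
          AdjoinRoot.mk _ (Polynomial.expand (R ⊗[ℤ] L.carrier) j ((Polynomial.C c).map _))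
        rw [AdjoinRoot.mk_C, ← @map_adams _ _ _ P _ _ inst Pe _ hext.isLambdaHom hext.aug_comp, Polynomial.map_C,
          Polynomial.expand_C, ← AdjoinRoot.mk_C, hα, Polynomial.map_C]
        rfl
      · show α (@adams _ _ inst Pe j (AdjoinRoot.mk (KRR.extPoly P e) Polynomial.X)) =
          AdjoinRoot.mk _ (Polynomial.expand (R ⊗[ℤ] L.carrier) j (Polynomial.X.map _))
        rw [AdjoinRoot.mk_X, @adams_line _ _ inst Pe _ hline, map_pow, Polynomial.map_X, Polynomial.expand_X,
          map_pow, AdjoinRoot.mk_X, AdjoinRoot.lift_root]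
    exact DFunLike.congr_fun h2 q
  apply hΨ
  rw [key _ ((j : (R ⊗[ℤ] L.carrier)[X]) * (W * Polynomial.X ^ ((j - 1) * (r + 1))) * Polynomial.expand (R ⊗[ℤ] L.carrier) j g) (by
    rw [map_mul, map_mul, map_mul, map_mul, map_mul, map_natCast, map_natCast, hW, map_pow, AdjoinRoot.mk_X,
      hψx]
    linear_combination ((j : C') * Λ w * AdjoinRoot.mk (rootPoly u') (Polynomial.expand (R ⊗[ℤ] L.carrier) j g)) * hρn)]
  have hP : (fun a => u' a ^ j) = ιL ∘ (adamsRingHom hL j ∘ u) := funext fun a => by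
    show ιL (u a) ^ j = ιL (adams L.posStr j (u a))
    rw [adams_line (hul a), map_pow]
  have hgen := coeff_modByMonic j (by omega) u' hjB W hWΘ (g * Polynomial.X ^ r)
  have hLHS : Ψ ((1 : R) ⊗ₜ adams P j (f (AdjoinRoot.mk (KRR.extPoly P e) q))) =
      ((g * Polynomial.X ^ r) %ₘ rootPoly fun a => u' a ^ j).coeff r := by
    rw [LinearMap.lTensor_tmul]
    show ι (adams P j (f (AdjoinRoot.mk (KRR.extPoly P e) q))) = _
    rw [functional_eq_coeff he hr hpm hdeg hf hlinv, hψK, hP, ← map_rootPoly, ← map_rootPoly, ← hp,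
      Polynomial.map_map, Polynomial.map_map]
    rw [show ιL (adamsRingHom hL j (φ (((q * Polynomial.X ^ r) %ₘ (KRR.extPoly P e)).coeff r))) =
        (((q * Polynomial.X ^ r) %ₘ (KRR.extPoly P e)).map ((ιL.comp (adamsRingHom hL j)).comp φ)).coeff r from by
      rw [Polynomial.coeff_map]; rfl, Polynomial.map_modByMonic _ hpm]
    congr 3
    rw [Polynomial.map_mul, Polynomial.map_pow, Polynomial.map_X]
    congr 2
    exact RingHom.ext fun c => (hψK c).symm
  rw [hLHS, hgen, map_mul, map_pow, Polynomial.expand_X, ← pow_mul, ← Polynomial.C_eq_natCast]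
  rw [show Polynomial.C (j : (R ⊗[ℤ] L.carrier)) * (W * Polynomial.X ^ ((j - 1) * (r + 1))) * Polynomial.expand (R ⊗[ℤ] L.carrier) j g *
      Polynomial.X ^ r = Polynomial.C (j : (R ⊗[ℤ] L.carrier)) *
        (Polynomial.expand (R ⊗[ℤ] L.carrier) j g * Polynomial.X ^ (j * r) * Polynomial.X ^ (j - 1) * W) from by
    have : (j - 1) * (r + 1) + r = j * r + (j - 1) := by
      obtain ⟨i, rfl⟩ : ∃ i, j = i + 1 := ⟨j - 1, by omega⟩
      rw [Nat.add_sub_cancel]; ring
    calc _ = Polynomial.C (j : (R ⊗[ℤ] L.carrier)) * (Polynomial.expand (R ⊗[ℤ] L.carrier) j g *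
          (Polynomial.X ^ ((j - 1) * (r + 1)) * Polynomial.X ^ r) * W) := by ring
      _ = _ := by rw [← pow_add, this, pow_add]; ring,
    ← Polynomial.smul_eq_C_mul, Polynomial.smul_modByMonic, Polynomial.coeff_smul, smul_eq_mul]

end Groth.Agent.ElemARR
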