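import Mathlib.LinearAlgebra.Lagrange
import Mathlib.RingTheory.Localization.FractionRing
import Mathlib.RingTheory.Localization.Away.Basic
import Mathlib.RingTheory.MvPolynomial.Basic
import Mathlib.Algebra.Polynomial.Expand
import Mathlib.Algebra.Ring.GeomSum
import Mathlib.Tactic.LinearCombination
import Mathlib.Tactic.FieldSimp
import Mathlib.Tactic.Ring

/-!
The residue identity behind Adams Riemann–Roch for a projection: with `P = ∏ (T - u_a)`,
`Θ = ∏ (T^j - u_a^j)/(T - u_a)` and `W Θ ≡ 1 (mod P)`, the top coefficient of `g` modulo `∏ (S - u_a^j)`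
is `j` times the top coefficient of `g(T^j) T^(j-1) W` modulo `P`.
-/

set_option autoImplicit false

universe u

open Polynomial Finset

namespace Groth.Agent.ElemARR

variable {A : Type u} [CommRing A] {m r : ℕ}

/-- `∏ (T - u_a)`. -/
noncomputable def rootPoly (u : Fin m → A) : A[X] := ∏ a, (X - C (u a))

/-- `∏ (T^j - u_a^j)/(T - u_a)`. -/
noncomputable def thetaPoly (j : ℕ) (u : Fin m → A) : A[X] :=
  ∏ a, ∑ k ∈ range j, C (u a) ^ k * X ^ (j - 1 - k)

theorem monic_rootPoly (u : Fin m → A) : (rootPoly u).Monic := monic_prod_X_sub_C _ _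

theorem eval_rootPoly (u : Fin m → A) (a : Fin m) : (rootPoly u).eval (u a) = 0 := by
  rw [rootPoly, eval_prod]
  exact Finset.prod_eq_zero (mem_univ a) (by simp)

theorem map_rootPoly {B : Type*} [CommRing B] (φ : A →+* B) (u : Fin m → A) :
    (rootPoly u).map φ = rootPoly (φ ∘ u) := by
  simp [rootPoly, Polynomial.map_prod]

theorem map_thetaPoly {B : Type*} [CommRing B] (φ : A →+* B) (j : ℕ) (u : Fin m → A) :
    (thetaPoly j u).map φ = thetaPoly j (φ ∘ u) := by
  simp [thetaPoly, Polynomial.map_prod, Polynomial.map_sum, Polynomial.map_pow]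

theorem exists_inverse (j : ℕ) (u : Fin m → A) (hu : ∀ a, IsUnit ((thetaPoly j u).eval (u a))) :
    ∃ W : A[X], rootPoly u ∣ W * thetaPoly j u - 1 := by
  choose v hv using fun a => (hu a).exists_right_inv
  have h1 : rootPoly u ∣ ∏ a, (1 - C (v a) * thetaPoly j u) := by
    refine Finset.prod_dvd_prod_of_dvd _ _ fun a _ => dvd_iff_isRoot.2 ?_
    show eval _ _ = 0
    rw [eval_sub, eval_one, eval_mul, eval_C, mul_comm, hv, sub_self]
  have h2 : thetaPoly j u ∣ (∏ a, (1 - C (v a) * thetaPoly j u)) - 1 := by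
    rw [← Ideal.mem_span_singleton, ← Ideal.Quotient.eq_zero_iff_mem, map_sub, map_prod, map_one]
    simp [Ideal.Quotient.eq_zero_iff_mem.2 (Ideal.mem_span_singleton_self (thetaPoly j u))]
  obtain ⟨c, hc⟩ := h2
  refine ⟨-c, ?_⟩
  convert h1.mul_right (-1) using 1
  linear_combination hc

theorem coeff_modByMonic_field {F : Type u} [Field F] (j : ℕ) (u : Fin (r + 1) → F) (hj : (j : F) ≠ 0)
    (hu : Function.Injective fun a => u a ^ j) (W : F[X]) (hW : rootPoly u ∣ W * thetaPoly j u - 1)
    (g : F[X]) :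
    (g %ₘ rootPoly fun a => u a ^ j).coeff r = j * ((expand F j g * X ^ (j - 1) * W) %ₘ rootPoly u).coeff r := by
  classical
  have hu1 : Function.Injective u := fun a b h => hu (by simp only [h])
  have lag : ∀ (v : Fin (r + 1) → F), Function.Injective v → ∀ Q : F[X],
      (Q %ₘ rootPoly v).coeff r = ∑ a, Q.eval (v a) / ∏ b ∈ univ.erase a, (v a - v b) := by
    intro v hv Q
    have hdeg : (Q %ₘ rootPoly v).degree < #(univ : Finset (Fin (r + 1))) := by
      refine (degree_modByMonic_lt Q (monic_rootPoly v)).trans_le ?_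
      rw [rootPoly, degree_prod]
      simp
    have h := Lagrange.coeff_eq_sum (s := (univ : Finset (Fin (r + 1)))) (hv.injOn) hdeg
    simp only [card_univ, Fintype.card_fin, Nat.add_sub_cancel] at h
    rw [h]
    refine Finset.sum_congr rfl fun a _ => ?_
    congr 1
    conv_rhs => rw [← modByMonic_add_div Q (rootPoly v)]
    rw [eval_add, eval_mul, eval_rootPoly, zero_mul, add_zero]
  rw [lag _ hu, lag _ hu1, mul_sum]
  refine Finset.sum_congr rfl fun a _ => ?_
  let θ : Fin (r + 1) → F := fun b => ∑ k ∈ range j, u b ^ k * u a ^ (j - 1 - k)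
  have hθ : (thetaPoly j u).eval (u a) = ∏ b, θ b := by simp [thetaPoly, eval_prod, eval_finsetSum, θ]
  have hθa : θ a = j * u a ^ (j - 1) := by
    simp only [θ, ← pow_add]
    rw [Finset.sum_congr rfl (g := fun _ => u a ^ (j - 1)) fun k hk => by
        rw [show k + (j - 1 - k) = j - 1 by have := Finset.mem_range.1 hk; omega],
      sum_const, card_range, nsmul_eq_mul]
  have hW1 : W.eval (u a) * (thetaPoly j u).eval (u a) = 1 := by
    obtain ⟨c, hc⟩ := hW
    have := congrArg (eval (u a)) hc
    rw [eval_sub, eval_mul, eval_one, eval_mul, eval_rootPoly, zero_mul, sub_eq_zero] at this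
    exact this
  have hprod : ∏ b ∈ univ.erase a, (u a ^ j - u b ^ j) =
      (∏ b ∈ univ.erase a, θ b) * ∏ b ∈ univ.erase a, (u a - u b) := by
    rw [← prod_mul_distrib]
    refine Finset.prod_congr rfl fun b _ => ?_
    have h := geom_sum₂_mul (u b) (u a) j
    simp only [θ]
    linear_combination h
  rw [hθ, ← mul_prod_erase _ _ (mem_univ a), hθa] at hW1
  have hne : ∏ b ∈ univ.erase a, θ b ≠ 0 := fun h0 => by simp [h0] at hW1
  have hΔ : ∏ b ∈ univ.erase a, (u a - u b) ≠ 0 :=
    Finset.prod_ne_zero_iff.2 fun b hb => sub_ne_zero.2 fun h => (Finset.mem_erase.1 hb).1 (hu1 h).symm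
  rw [hprod, eval_mul, eval_mul, eval_pow, eval_X, expand_eval]
  field_simp
  linear_combination -(g.eval (u a ^ j)) * hW1

theorem coeff_modByMonic (j : ℕ) (hj0 : j ≠ 0) (u : Fin (r + 1) → A) (hj : IsUnit (j : A)) (W : A[X])
    (hW : rootPoly u ∣ W * thetaPoly j u - 1) (g : A[X]) :
    (g %ₘ rootPoly fun a => u a ^ j).coeff r = j * ((expand A j g * X ^ (j - 1) * W) %ₘ rootPoly u).coeff r := by
  classical
  let v : Fin (r + 1) → MvPolynomial (Fin (r + 1)) ℤ := MvPolynomial.X
  let d : MvPolynomial (Fin (r + 1)) ℤ := (j : MvPolynomial (Fin (r + 1)) ℤ) * ∏ a, (thetaPoly j v).eval (v a)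
  let ev : MvPolynomial (Fin (r + 1)) ℤ →+* A := (MvPolynomial.aeval u).toRingHom
  have hev : ∀ a, ev (v a) = u a := fun a => MvPolynomial.aeval_X u a
  have hevu : ev ∘ v = u := funext hev
  have hθ : ∀ a, IsUnit ((thetaPoly j u).eval (u a)) := fun a => by
    obtain ⟨c, hc⟩ := hW
    have := congrArg (eval (u a)) hc
    rw [eval_sub, eval_mul, eval_one, eval_mul, eval_rootPoly, zero_mul, sub_eq_zero] at this
    exact IsUnit.of_mul_eq_one _ ((mul_comm _ _).trans this)
  have hd : IsUnit (ev d) := by
    simp only [d, map_mul, map_natCast, map_prod]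
    refine hj.mul (IsUnit.prod_univ_iff.2 fun a => ?_)
    rw [← eval_map_apply, map_thetaPoly, hevu, hev]
    exact hθ a
  have hd0 : d ≠ 0 := by
    refine mul_ne_zero (Nat.cast_ne_zero.2 hj0) (Finset.prod_ne_zero_iff.2 fun a _ h0 => ?_)
    have h1 := congrArg (MvPolynomial.eval fun _ => (1 : ℤ)) h0
    rw [← eval_map_apply, map_thetaPoly, map_zero] at h1
    simp [thetaPoly, eval_prod, eval_finsetSum, v, hj0] at h1
  let A₀ := Localization.Away d
  let c : MvPolynomial (Fin (r + 1)) ℤ →+* A₀ := algebraMap _ A₀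
  haveI : IsDomain A₀ := IsLocalization.isDomain_of_le_nonZeroDivisors _
    (Submonoid.powers_le.2 (mem_nonZeroDivisors_of_ne_zero hd0))
  have hc : Function.Injective c := IsLocalization.injective A₀
    (Submonoid.powers_le.2 (mem_nonZeroDivisors_of_ne_zero hd0))
  let u₀ : Fin (r + 1) → A₀ := c ∘ v
  let φ : A₀ →+* A := IsLocalization.Away.lift d hd
  have hφ : φ ∘ u₀ = u := funext fun a => (IsLocalization.Away.lift_eq d hd (v a)).trans (hev a)
  have hdu : IsUnit (c d) := IsLocalization.Away.algebraMap_isUnit d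
  simp only [d, map_mul, map_natCast, map_prod, IsUnit.mul_iff, IsUnit.prod_univ_iff] at hdu
  obtain ⟨W₀, hW₀⟩ := exists_inverse j u₀ fun a => by
    have := hdu.2 a
    rwa [← eval_map_apply, map_thetaPoly] at this
  induction g using Polynomial.induction_on' with
  | add p q hp hq =>
    simp only [map_add, add_mul, add_modByMonic, coeff_add, mul_add, hp, hq]
  | monomial n a =>
    let ι : A₀ →+* FractionRing A₀ := algebraMap _ _
    have hι : Function.Injective ι := IsFractionRing.injective _ _
    have hinj : Function.Injective fun i => (ι ∘ u₀) i ^ j := fun a b h => by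
      simp only [u₀, Function.comp_apply, ← map_pow] at h
      have h' := hc (hι h)
      simp only [v, MvPolynomial.X_pow_eq_monomial] at h'
      have := MvPolynomial.monomial_left_injective one_ne_zero h'
      exact Finsupp.single_left_injective hj0 this
    have hjF : (j : FractionRing A₀) ≠ 0 := fun h0 => by
      have h1 : ι (c (j : MvPolynomial (Fin (r + 1)) ℤ)) = ι (c 0) := by simpa using h0
      exact (Nat.cast_ne_zero.2 hj0 : (j : MvPolynomial (Fin (r + 1)) ℤ) ≠ 0) (hc (hι h1))
    have hdvd := (Polynomial.map_dvd ι hW₀)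
    rw [Polynomial.map_sub, Polynomial.map_mul, Polynomial.map_one, map_rootPoly, map_thetaPoly] at hdvd
    have hF := coeff_modByMonic_field (r := r) j (ι ∘ u₀) hjF hinj (W₀.map ι) hdvd
      ((X ^ n : A₀[X]).map ι)
    have h0 : ((X ^ n : A₀[X]) %ₘ rootPoly fun a => u₀ a ^ j).coeff r =
        j * ((expand A₀ j (X ^ n) * X ^ (j - 1) * W₀) %ₘ rootPoly u₀).coeff r := by
      apply hι
      rw [map_mul, map_natCast, ← coeff_map, ← coeff_map, map_modByMonic ι (monic_rootPoly _),
        map_modByMonic ι (monic_rootPoly _), map_rootPoly, map_rootPoly, Polynomial.map_mul,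
        Polynomial.map_mul, map_expand]
      simpa [Function.comp_def, Polynomial.map_pow] using hF
    have h1 := congrArg φ h0
    rw [map_mul, map_natCast, ← coeff_map, ← coeff_map, map_modByMonic φ (monic_rootPoly _),
      map_modByMonic φ (monic_rootPoly _), map_rootPoly, map_rootPoly, Polynomial.map_mul,
      Polynomial.map_mul, map_expand, Polynomial.map_pow, Polynomial.map_pow, map_X, hφ,
      show (φ ∘ fun a => u₀ a ^ j) = fun a => u a ^ j from funext fun a => by
        rw [Function.comp_apply, map_pow, ← congrFun hφ a]; rfl] at h1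
    have hWφ : rootPoly u ∣ W - W₀.map φ := by
      have h2 := Polynomial.map_dvd φ hW₀
      rw [Polynomial.map_sub, Polynomial.map_mul, Polynomial.map_one, map_rootPoly, map_thetaPoly, hφ] at h2
      have : W - W₀.map φ = (W * thetaPoly j u - 1) * W₀.map φ - (W₀.map φ * thetaPoly j u - 1) * W := by ring
      rw [this]
      exact dvd_sub (hW.mul_right _) (h2.mul_right _)
    have hmod : ∀ Q, (Q * W) %ₘ rootPoly u = (Q * W₀.map φ) %ₘ rootPoly u := fun Q =>
      modByMonic_eq_of_dvd_sub (monic_rootPoly u) (by rw [← mul_sub]; exact hWφ.mul_left _)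
    rw [← C_mul_X_pow_eq_monomial, ← smul_eq_C_mul, map_smul, smul_mul_assoc, smul_mul_assoc,
      smul_modByMonic, smul_modByMonic, coeff_smul, coeff_smul, hmod, h1, smul_eq_mul, smul_eq_mul]
    ring

end Groth.Agent.ElemARR
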